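import Mathlib
import Cfsg.Agent.Helper14.PslAdj2
import Cfsg.Agent.Helper14.PrimeOrdSp

set_option autoImplicit false

namespace Cfsg.Agent.Helper4.PSpRS

open Polynomial

theorem adj_pow {F V : Type*} [Field F] [AddCommGroup V] [Module F V]
    (f : LinearMap.BilinForm F V) (B Bi : Module.End F V)
    (h : ∀ x y, f (B x) y = f x (Bi y)) (i : ℕ) (x y : V) :
    f ((B ^ i) x) y = f x ((Bi ^ i) y) := by
  induction i generalizing x y with
  | zero => simp
  | succ i ih =>
    rw [pow_succ, pow_succ', Module.End.mul_apply, Module.End.mul_apply, ih, h]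

theorem adj_poly {F V : Type*} [Field F] [AddCommGroup V] [Module F V]
    (f : LinearMap.BilinForm F V) (B Bi : Module.End F V)
    (h : ∀ x y, f (B x) y = f x (Bi y)) (g : F[X]) (x y : V) :
    f (aeval B g x) y = f x (aeval Bi g y) := by
  rw [aeval_eq_sum_range, aeval_eq_sum_range]
  simp only [LinearMap.sum_apply, LinearMap.smul_apply, map_sum, map_smul]
  exact Finset.sum_congr rfl (fun i _ => by rw [adj_pow f B Bi h])

theorem aeval_pow_card {F V : Type*} [Field F] [Fintype F] [AddCommGroup V] [Module F V]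
    (x : Module.End F V) (g : F[X]) :
    aeval (x ^ Fintype.card F) g = (aeval x g) ^ Fintype.card F := by
  rw [← expand_aeval, FiniteField.expand_card, map_pow]

theorem aeval_pow_card_pow {F V : Type*} [Field F] [Fintype F] [AddCommGroup V] [Module F V]
    (x : Module.End F V) (g : F[X]) (j : ℕ) :
    aeval (x ^ (Fintype.card F ^ j)) g = (aeval x g) ^ (Fintype.card F ^ j) := by
  induction j with
  | zero => simp
  | succ j ih => rw [pow_succ, pow_mul, aeval_pow_card, ih, ← pow_mul]

theorem comm_aeval {F V : Type*} [Field F] [AddCommGroup V] [Module F V]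
    (A B : Module.End F V) (hAB : A * B = B * A) (g : F[X]) :
    A * aeval B g = aeval B g * A := by
  rw [aeval_eq_sum_range, Finset.mul_sum, Finset.sum_mul]
  refine Finset.sum_congr rfl (fun i _ => ?_)
  have h1 : A * B ^ i = B ^ i * A := (Commute.pow_right (show Commute A B from hAB) i)
  rw [mul_smul_comm, h1, smul_mul_assoc]

theorem x1 {F V : Type*} [Field F] [Fintype F] [AddCommGroup V] [Module F V] [Finite V]
    (f : LinearMap.BilinForm F V) (halt : ∀ v, f v v = 0) (hnd : ∀ v, (∀ w, f v w = 0) → v = 0)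
    (r s : ℕ) [Fact r.Prime] [Fact s.Prime] (hrq : ¬ r ∣ Fintype.card F)
    (hsq : ¬ s ∣ Fintype.card F)
    (A B : Module.End F V) (hAf : ∀ u v, f (A u) (A v) = f u v)
    (hBf : ∀ u v, f (B u) (B v) = f u v)
    (hA : A ^ r = 1) (hB : B ^ s = 1) (hAB : A * B = B * A)
    (hker : LinearMap.ker (A - 1) = LinearMap.ker (B - 1)) (m : ℕ) (hm : 0 < m)
    (hl : orderOf ((Fintype.card F : ℕ) : ZMod s) = 2 * m)
    (hdim : Module.finrank F ↥(LinearMap.ker (B - 1)) + 2 * m = Module.finrank F V) :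
    r ∣ Fintype.card F ^ m + 1 := by
  classical
  by_contra hr
  have hsP : s.Prime := Fact.out
  have hrP : r.Prime := Fact.out
  haveI : Module.Finite F V := Module.Finite.of_finite
  -- s ∣ q^m + 1
  have hsm : s ∣ Fintype.card F ^ m + 1 := by
    have h := Cfsg.Agent.Helper14.PrimeOrdSp.dvd_pow_half_add_one (q := Fintype.card F) (r := s)
      (i := 2 * m) hsP hl.symm (by omega) ⟨m, by ring⟩
    rwa [Nat.mul_div_cancel_left m (by norm_num : 0 < 2)] at h
  -- (s : F) ≠ 0
  have hs0 : (s : F) ≠ 0 := by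
    intro h0
    have h1 : ringChar F ∣ s := (ringChar.spec F s).mp h0
    have h2 : ringChar F ∣ Fintype.card F :=
      (ringChar.spec F (Fintype.card F)).mp (FiniteField.cast_card_eq_zero F)
    have h3 : ringChar F = s :=
      ((Nat.dvd_prime hsP).mp h1).resolve_left CharP.ringChar_ne_one
    exact hsq (h3 ▸ h2)
  -- inverse of B
  obtain ⟨Bi, hBi⟩ : ∃ Bi : Module.End F V, Bi = B ^ (s - 1) := ⟨_, rfl⟩
  have hBBi : B * Bi = 1 := by
    rw [hBi, ← pow_succ', Nat.sub_add_cancel hsP.one_le, hB]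
  have hadj : ∀ x y, f (B x) y = f x (Bi y) := by
    intro x y
    have h1 : B (Bi y) = y := by rw [← Module.End.mul_apply, hBBi, Module.End.one_apply]
    calc f (B x) y = f (B x) (B (Bi y)) := by rw [h1]
      _ = f x (Bi y) := hBf x (Bi y)
  have hskew : ∀ a b, f a b = - f b a := by
    intro a b
    have h1 := halt (a + b)
    simp only [map_add, LinearMap.add_apply, halt] at h1
    linear_combination h1
  have hBq : B ^ (Fintype.card F ^ m) = Bi := by
    obtain ⟨t, ht⟩ := hsm
    have h1 : B ^ (Fintype.card F ^ m) * B = 1 := by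
      rw [← pow_succ, ht, pow_mul, hB, one_pow]
    calc B ^ (Fintype.card F ^ m) = B ^ (Fintype.card F ^ m) * (B * Bi) := by rw [hBBi, mul_one]
      _ = (B ^ (Fintype.card F ^ m) * B) * Bi := by rw [mul_assoc]
      _ = Bi := by rw [h1, one_mul]
  -- E and U
  obtain ⟨E, hE⟩ : ∃ E : Submodule F V, E = LinearMap.ker (B - 1) := ⟨_, rfl⟩
  obtain ⟨U, hU⟩ : ∃ U : Submodule F V, U = LinearMap.range (B - 1) := ⟨_, rfl⟩
  rw [← hE] at hker hdim
  have hEmem : ∀ v, v ∈ E ↔ B v = v := by
    intro v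
    rw [hE, LinearMap.mem_ker, LinearMap.sub_apply, Module.End.one_apply, sub_eq_zero]
  have hEmemA : ∀ v, v ∈ E ↔ A v = v := by
    intro v
    rw [← hker, LinearMap.mem_ker, LinearMap.sub_apply, Module.End.one_apply, sub_eq_zero]
  have hBpow : ∀ (i : ℕ) (v : V), B v = v → (B ^ i) v = v := by
    intro i v hv
    induction i with
    | zero => simp
    | succ i ih => rw [pow_succ, Module.End.mul_apply, hv, ih]
  have hUE : ∀ v, v ∈ U → v ∈ E → v = 0 := by
    intro v hvU hvE
    rw [hU, LinearMap.mem_range] at hvU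
    obtain ⟨w, rfl⟩ := hvU
    have hBv := (hEmem _).mp hvE
    have h1 : (∑ i ∈ Finset.range s, B ^ i) ((B - 1) w) = 0 := by
      rw [← Module.End.mul_apply, geom_sum_mul, hB, sub_self, LinearMap.zero_apply]
    rw [LinearMap.sum_apply, Finset.sum_congr rfl (fun i _ => hBpow i _ hBv), Finset.sum_const,
      Finset.card_range, ← Nat.cast_smul_eq_nsmul F] at h1
    exact (smul_eq_zero.mp h1).resolve_left hs0
  have hcomm : ∀ (P : Module.End F V), P * B = B * P → ∀ v ∈ U, P v ∈ U := by
    intro P hP v hv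
    rw [hU, LinearMap.mem_range] at hv ⊢
    obtain ⟨w, rfl⟩ := hv
    refine ⟨P w, ?_⟩
    have h1 : (B - 1) * P = P * (B - 1) := by rw [sub_mul, mul_sub, hP, one_mul, mul_one]
    rw [← Module.End.mul_apply, h1, Module.End.mul_apply]
  have hperp : ∀ e ∈ E, ∀ z ∈ U, f e z = 0 := by
    intro e he z hz
    rw [hU, LinearMap.mem_range] at hz
    obtain ⟨w, rfl⟩ := hz
    have hBe := (hEmem e).mp he
    rw [LinearMap.sub_apply, Module.End.one_apply, map_sub, sub_eq_zero]
    calc f e (B w) = f (B e) (B w) := by rw [hBe]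
      _ = f e w := hBf e w
  have hGB : ∀ g : F[X], aeval B g * B = B * aeval B g := by
    intro g
    calc aeval B g * B = aeval B g * aeval B (X : F[X]) := by rw [aeval_X]
      _ = aeval B (g * X) := by rw [map_mul]
      _ = aeval B (X * g) := by rw [mul_comm]
      _ = B * aeval B g := by rw [map_mul, aeval_X]
  have hUdim : Module.finrank F U = 2 * m := by
    have h1 := LinearMap.finrank_range_add_finrank_ker (B - 1)
    rw [← hU, ← hE] at h1
    omega
  have hUne : U ≠ ⊥ := by
    intro h0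
    rw [h0, finrank_bot] at hUdim
    omega
  obtain ⟨u, huU, hu0⟩ := (Submodule.ne_bot_iff U).mp hUne
  obtain ⟨φ, hφ⟩ : ∃ φ : F[X] →ₗ[F] V, ∀ g, φ g = aeval B g u :=
    ⟨(LinearMap.applyₗ (R := F) u : Module.End F V →ₗ[F] V).comp (aeval B).toLinearMap,
      fun g => rfl⟩
  obtain ⟨W, hW⟩ : ∃ W : Submodule F V, W = LinearMap.range φ := ⟨_, rfl⟩
  have hWmem : ∀ w, w ∈ W ↔ ∃ g : F[X], aeval B g u = w := by
    intro w
    rw [hW, LinearMap.mem_range]
    constructor
    · rintro ⟨g, hg⟩
      exact ⟨g, by rw [← hφ, hg]⟩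
    · rintro ⟨g, hg⟩
      exact ⟨g, by rw [hφ, hg]⟩
  have hWU : W ≤ U := by
    intro w hw
    obtain ⟨g, rfl⟩ := (hWmem w).mp hw
    exact hcomm _ (hGB g) u huU
  have hWB : ∀ w ∈ W, B w ∈ W := by
    intro w hw
    obtain ⟨g, rfl⟩ := (hWmem w).mp hw
    refine (hWmem _).mpr ⟨X * g, ?_⟩
    rw [map_mul, aeval_X, Module.End.mul_apply]
  have huW : u ∈ W := (hWmem u).mpr ⟨1, by rw [map_one, Module.End.one_apply]⟩
  have hWE : W ⊓ LinearMap.ker (B - 1) = ⊥ := by
    rw [eq_bot_iff]
    rintro v ⟨hvW, hvE⟩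
    rw [Submodule.mem_bot]
    rw [SetLike.mem_coe, ← hE] at hvE
    exact hUE v (hWU hvW) hvE
  have hWdvd := Cfsg.Agent.Helper14.PslAdj2.fix_dvd s hsq B hB W hWB
  rw [hWE, finrank_bot, Nat.sub_zero, hl] at hWdvd
  have hWpos : 0 < Module.finrank F W := by
    rw [Module.finrank_pos_iff_exists_ne_zero]
    exact ⟨⟨u, huW⟩, fun h => hu0 (congrArg Subtype.val h)⟩
  have hWeq : W = U := by
    apply Submodule.eq_of_le_of_finrank_le hWU
    rw [hUdim]
    exact Nat.le_of_dvd hWpos hWdvd
  have hAuU : A u ∈ U := hcomm A hAB u huU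
  rw [← hWeq] at hAuU
  obtain ⟨g, hg⟩ := (hWmem _).mp hAuU
  obtain ⟨G, hGdef⟩ : ∃ G : Module.End F V, G = aeval B g := ⟨_, rfl⟩
  rw [← hGdef] at hg
  have hAG : ∀ v ∈ U, A v = G v := by
    intro v hv
    rw [← hWeq] at hv
    obtain ⟨h, rfl⟩ := (hWmem v).mp hv
    have h1 : A (aeval B h u) = aeval B h (A u) := by
      rw [← Module.End.mul_apply, comm_aeval A B hAB h, Module.End.mul_apply]
    have h2 : aeval B h (G u) = G (aeval B h u) := by
      rw [← Module.End.mul_apply, ← Module.End.mul_apply, hGdef, ← map_mul, ← map_mul, mul_comm]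
    rw [h1, ← hg, h2]
  have hGU : ∀ v ∈ U, G v ∈ U := by
    rw [hGdef]
    exact hcomm _ (hGB g)
  have hpowU : ∀ (k : ℕ) (v : V), v ∈ U → (G ^ k) v ∈ U := by
    intro k
    induction k with
    | zero => intro v hv; simpa using hv
    | succ k ih => intro v hv; rw [pow_succ, Module.End.mul_apply]; exact ih _ (hGU v hv)
  have hApow : ∀ (k : ℕ) (v : V), v ∈ U → (A ^ k) v = (G ^ k) v := by
    intro k
    induction k with
    | zero => intro v hv; simp
    | succ k ih =>
      intro v hv
      rw [pow_succ, pow_succ, Module.End.mul_apply, Module.End.mul_apply, hAG v hv,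
        ih _ (hGU v hv)]
  have hG' : aeval Bi g = G ^ (Fintype.card F ^ m) := by
    rw [← hBq, aeval_pow_card_pow, hGdef]
  have hsup : U ⊔ E = ⊤ := by
    apply Submodule.eq_top_of_finrank_eq
    have h1 := Submodule.finrank_sup_add_finrank_inf_eq U E
    have h2 : U ⊓ E = ⊥ := by
      rw [eq_bot_iff]
      rintro v ⟨h3, h4⟩
      rw [Submodule.mem_bot]
      exact hUE v h3 h4
    rw [h2, finrank_bot] at h1
    omega
  have hkey : ∀ x ∈ U, (aeval Bi g) (G x) = x := by
    intro x hx
    have hGxU : G x ∈ U := hGU x hx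
    have hG'U : (aeval Bi g) (G x) ∈ U := by
      rw [hG']
      exact hpowU _ _ hGxU
    have hzU : x - (aeval Bi g) (G x) ∈ U := U.sub_mem hx hG'U
    have hz : x - (aeval Bi g) (G x) = 0 := by
      apply hnd
      intro w
      rw [hskew]
      have hw : w ∈ U ⊔ E := by rw [hsup]; exact Submodule.mem_top
      obtain ⟨a, ha, e, he, rfl⟩ := Submodule.mem_sup.mp hw
      have h1 : f a (x - (aeval Bi g) (G x)) = 0 := by
        rw [map_sub, sub_eq_zero]
        calc f a x = f (A a) (A x) := (hAf a x).symm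
          _ = f (G a) (G x) := by rw [hAG a ha, hAG x hx]
          _ = f a ((aeval Bi g) (G x)) := by
            rw [hGdef]
            exact adj_poly f B Bi hadj g a _
      have h2 : f e (x - (aeval Bi g) (G x)) = 0 := hperp e he _ hzU
      rw [map_add, LinearMap.add_apply, h1, h2, add_zero, neg_zero]
    exact (sub_eq_zero.mp hz).symm
  have hAfix : ∀ x ∈ U, (A ^ (Fintype.card F ^ m + 1)) x = x := by
    intro x hx
    rw [hApow _ x hx, pow_succ, Module.End.mul_apply, ← hG']
    exact hkey x hx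
  have hcop : Nat.Coprime (Fintype.card F ^ m + 1) r :=
    Nat.Coprime.symm ((Nat.Prime.coprime_iff_not_dvd hrP).mpr hr)
  obtain ⟨c, -, hc⟩ := Nat.exists_mul_mod_eq_one_of_coprime hcop hrP.one_lt
  have hAc : A ^ ((Fintype.card F ^ m + 1) * c) = A := by
    have h1 := Nat.div_add_mod ((Fintype.card F ^ m + 1) * c) r
    rw [hc] at h1
    rw [← h1, pow_succ, pow_mul, hA, one_pow, one_mul]
  have hAfix2 : ∀ x ∈ U, A x = x := by
    intro x hx
    have h1 : ∀ k : ℕ, ((A ^ (Fintype.card F ^ m + 1)) ^ k) x = x := by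
      intro k
      induction k with
      | zero => simp
      | succ k ih => rw [pow_succ, Module.End.mul_apply, hAfix x hx, ih]
    have h2 := h1 c
    rw [← pow_mul, hAc] at h2
    exact h2
  exact hu0 (hUE u huU ((hEmemA u).mpr (hAfix2 u huU)))

end Cfsg.Agent.Helper4.PSpRS
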